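import Mathlib

/-! Clopen lifting along finite morphisms for coproducts of schemes (S17964). -/

set_option autoImplicit false
set_option synthInstance.maxHeartbeats 400000
set_option maxHeartbeats 4000000
set_option linter.style.haveILetI false
set_option linter.unusedSectionVars false
set_option linter.unusedVariables false
set_option linter.unusedSimpArgs false
set_option linter.unnecessarySimpa false

open CategoryTheory CategoryTheory.Limits AlgebraicGeometry

namespace Groth.Agent.Helper2.SigmaHens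

universe u

section Top

theorem clopen_lift_of_pieces {Yt Zt : Type*} [TopologicalSpace Yt] [TopologicalSpace Zt]
    (φ : Zt → Yt) {J : Type*} {Yj Wj : J → Type*}
    [∀ j, TopologicalSpace (Yj j)] [∀ j, TopologicalSpace (Wj j)]
    (p : ∀ j, Yj j → Yt) (hp : ∀ j, Topology.IsOpenEmbedding (p j))
    (a : ∀ j, Wj j → Yj j) (b : ∀ j, Wj j → Zt) (hb : ∀ j, Continuous (b j))
    (P1 : ∀ y, ∃ j y', p j y' = y)
    (P2 : ∀ j k (y' : Yj j) (y'' : Yj k), p j y' = p k y'' → j = k)
    (T1 : ∀ j w, φ (b j w) = p j (a j w))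
    (T2 : ∀ j z y', φ z = p j y' → ∃ w, a j w = y' ∧ b j w = z)
    (H : ∀ j (V' : Set (Wj j)), IsClopen V' →
      ∃! U' : Set (Yj j), IsClopen U' ∧ a j ⁻¹' U' = V')
    (V : Set Zt) (hV : IsClopen V) :
    ∃! U : Set Yt, IsClopen U ∧ φ ⁻¹' U = V := by
  have hVj : ∀ j, IsClopen (b j ⁻¹' V) := fun j => hV.preimage (hb j)
  have H' : ∀ j, ∃ U' : Set (Yj j), (IsClopen U' ∧ a j ⁻¹' U' = b j ⁻¹' V) ∧
      ∀ U'', (IsClopen U'' ∧ a j ⁻¹' U'' = b j ⁻¹' V) → U'' = U' :=
    fun j => H j _ (hVj j)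
  choose Uj hUj hUjuniq using H'
  have key : ∀ j (y' : Yj j), p j y' ∈ (⋃ k, p k '' Uj k) ↔ y' ∈ Uj j := by
    intro j y'
    constructor
    · intro h
      obtain ⟨k, hk⟩ := Set.mem_iUnion.mp h
      obtain ⟨y'', hy'', e⟩ := hk
      have hjk : k = j := P2 k j y'' y' e
      subst hjk
      rwa [← (hp k).injective e]
    · intro h
      exact Set.mem_iUnion.mpr ⟨j, y', h, rfl⟩
  have keyc : ∀ j (y' : Yj j), p j y' ∈ (⋃ k, p k '' (Uj k)ᶜ) ↔ y' ∉ Uj j := by
    intro j y'
    constructor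
    · intro h
      obtain ⟨k, hk⟩ := Set.mem_iUnion.mp h
      obtain ⟨y'', hy'', e⟩ := hk
      have hjk : k = j := P2 k j y'' y' e
      subst hjk
      rwa [← (hp k).injective e]
    · intro h
      exact Set.mem_iUnion.mpr ⟨j, y', h, rfl⟩
  refine ⟨⋃ k, p k '' Uj k, ⟨⟨?_, ?_⟩, ?_⟩, ?_⟩
  · rw [← isOpen_compl_iff]
    have hc : (⋃ k, p k '' Uj k)ᶜ = ⋃ k, p k '' (Uj k)ᶜ := by
      ext y
      obtain ⟨j, y', rfl⟩ := P1 y
      rw [Set.mem_compl_iff, key, keyc]
    rw [hc]
    exact isOpen_iUnion fun k => (hp k).isOpenMap _ (hUj k).1.compl.isOpen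
  · exact isOpen_iUnion fun k => (hp k).isOpenMap _ (hUj k).1.isOpen
  · ext z
    obtain ⟨j, y', hy'⟩ := P1 (φ z)
    obtain ⟨w, hw1, hw2⟩ := T2 j z y' hy'.symm
    rw [Set.mem_preimage, ← hy', key]
    have h3 : w ∈ a j ⁻¹' Uj j ↔ w ∈ b j ⁻¹' V := by rw [(hUj j).2]
    rw [Set.mem_preimage, Set.mem_preimage, hw1, hw2] at h3
    exact h3
  · rintro U' ⟨hU'c, hU'e⟩
    have hU'j : ∀ j, p j ⁻¹' U' = Uj j := by
      intro j
      apply hUjuniq j
      refine ⟨hU'c.preimage (hp j).continuous, ?_⟩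
      ext w
      rw [Set.mem_preimage, Set.mem_preimage, Set.mem_preimage, ← T1, ← hU'e]
      rfl
    ext y
    obtain ⟨j, y', rfl⟩ := P1 y
    rw [key, ← hU'j j]
    rfl

end Top

section Sch

variable {ι : Type u} (X X₀ : ι → Scheme.{u}) (i : ∀ j, X₀ j ⟶ X j)

lemma exists_sigmaι_eq (y : ↥(∐ X)) : ∃ (k : ι) (x : ↥(X k)), (Sigma.ι X k).base x = y := by
  obtain ⟨⟨k, x⟩, rfl⟩ := (sigmaMk X).surjective y
  exact ⟨k, x, (sigmaMk_mk X k x).symm⟩

lemma idx_eq_of_sigmaι_eq {j k : ι} (x : ↥(X j)) (x' : ↥(X k))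
    (h : (Sigma.ι X j).base x = (Sigma.ι X k).base x') : j = k := by
  have := (sigmaι_eq_iff X j k x x').mp h
  exact congrArg Sigma.fst this

lemma ιmap_apply (k : ι) (x : ↥(X₀ k)) :
    (Limits.Sigma.map i).base ((Sigma.ι X₀ k).base x) = (Sigma.ι X k).base ((i k).base x) := by
  show (Sigma.ι X₀ k ≫ Limits.Sigma.map i).base x = (i k ≫ Sigma.ι X k).base x
  rw [Sigma.ι_map]

lemma isPullback_sigmaι (j : ι) :
    IsPullback (i j) (Sigma.ι X₀ j) (Sigma.ι X j) (Limits.Sigma.map i) := by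
  refine IsOpenImmersion.isPullback (i j) (Sigma.ι X₀ j) (Sigma.ι X j) (Limits.Sigma.map i)
    (Sigma.ι_map i j) ?_
  ext y
  constructor
  · intro hy
    obtain ⟨k, x, rfl⟩ := exists_sigmaι_eq X₀ y
    obtain ⟨x', hx'⟩ := hy
    have e : (Sigma.ι X j).base x' = (Sigma.ι X k).base ((i k).base x) := by
      rw [← ιmap_apply]
      exact hx'
    have hjk := idx_eq_of_sigmaι_eq X x' _ e
    subst hjk
    exact ⟨x, rfl⟩
  · rintro ⟨x, rfl⟩
    exact ⟨(i j).base x, (ιmap_apply X X₀ i j x).symm⟩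

lemma isPullback_paste (j : ι) {Y : Scheme.{u}} (g : Y ⟶ X j) :
    IsPullback (pullback.fst g (i j)) (pullback.snd g (i j) ≫ Sigma.ι X₀ j)
      (g ≫ Sigma.ι X j) (Limits.Sigma.map i) :=
  ((IsPullback.of_hasPullback g (i j)).flip.paste_horiz (isPullback_sigmaι X X₀ i j).flip).flip

instance isClosedImmersion_sigmaι (j : ι) : IsClosedImmersion (Sigma.ι X j) := by
  apply IsClosedImmersion.of_isPreimmersion
  rw [← isOpen_compl_iff, isOpen_iff_forall_mem_open]
  intro y hy
  obtain ⟨k, x, rfl⟩ := exists_sigmaι_eq X y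
  have hkj : k ≠ j := by
    rintro rfl
    exact hy ⟨x, rfl⟩
  refine ⟨Set.range (Sigma.ι X k).base, ?_, (Sigma.ι X k).isOpenEmbedding.isOpen_range, ⟨x, rfl⟩⟩
  rintro _ ⟨x', rfl⟩ ⟨x'', hx''⟩
  exact hkj (idx_eq_of_sigmaι_eq X x' x'' hx''.symm)

theorem forward
    (H : ∀ (Y : Scheme.{u}) (g : Y ⟶ ∐ X), IsFinite g →
      ∀ V : Set ↥(pullback g (Limits.Sigma.map i)), IsClopen V →
        ∃! U : Set ↥Y, IsClopen U ∧ (pullback.fst g (Limits.Sigma.map i)).base ⁻¹' U = V)
    (j : ι) (Y : Scheme.{u}) (g : Y ⟶ X j) (hg : IsFinite g)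
    (V : Set ↥(pullback g (i j))) (hV : IsClopen V) :
    ∃! U : Set ↥Y, IsClopen U ∧ (pullback.fst g (i j)).base ⁻¹' U = V := by
  have hpb := isPullback_paste X X₀ i j g
  obtain ⟨e, he⟩ : ∃ e : pullback g (i j) ≅ pullback (g ≫ Sigma.ι X j) (Limits.Sigma.map i),
      e = hpb.isoPullback := ⟨_, rfl⟩
  have hfst : e.hom ≫ pullback.fst (g ≫ Sigma.ι X j) (Limits.Sigma.map i) =
      pullback.fst g (i j) := by
    rw [he]
    exact hpb.isoPullback_hom_fst
  haveI := hg
  have hfin : IsFinite (g ≫ Sigma.ι X j) := inferInstance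
  have hV' : IsClopen (e.inv.base ⁻¹' V) := hV.preimage e.inv.continuous
  obtain ⟨U, ⟨hUc, hUe⟩, hUu⟩ := H Y (g ≫ Sigma.ι X j) hfin _ hV'
  have hpt : ∀ z, (pullback.fst g (i j)).base z =
      (pullback.fst (g ≫ Sigma.ι X j) (Limits.Sigma.map i)).base (e.hom.base z) := by
    intro z
    rw [← hfst]
    rfl
  have hinv : ∀ z, e.inv.base (e.hom.base z) = z := by
    intro z
    have := congrArg (fun f : pullback g (i j) ⟶ pullback g (i j) => f.base z) e.hom_inv_id
    simpa using this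
  have hinv' : ∀ z, e.hom.base (e.inv.base z) = z := by
    intro z
    have := congrArg (fun f : pullback (g ≫ Sigma.ι X j) (Limits.Sigma.map i) ⟶ _ => f.base z)
      e.inv_hom_id
    simpa using this
  refine ⟨U, ⟨hUc, ?_⟩, ?_⟩
  · ext z
    have h1 : (e.hom.base z) ∈
        (pullback.fst (g ≫ Sigma.ι X j) (Limits.Sigma.map i)).base ⁻¹' U ↔
        e.hom.base z ∈ e.inv.base ⁻¹' V := by rw [hUe]
    simp only [Set.mem_preimage] at h1 ⊢
    rw [hpt, h1, hinv]
  · rintro U₂ ⟨hU₂c, hU₂e⟩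
    apply hUu
    refine ⟨hU₂c, ?_⟩
    ext z'
    simp only [Set.mem_preimage]
    rw [← hinv' z', ← hpt, hinv, ← hU₂e]
    rfl

variable {X X₀ i} in
/-- the comparison map from the piece over `X j` to the total fibre product -/
noncomputable def bMap {Y : Scheme.{u}} (g : Y ⟶ ∐ X) (j : ι) :
    pullback (pullback.snd g (Sigma.ι X j)) (i j) ⟶ pullback g (Limits.Sigma.map i) :=
  pullback.lift (pullback.fst (pullback.snd g (Sigma.ι X j)) (i j) ≫ pullback.fst g (Sigma.ι X j))
    (pullback.snd (pullback.snd g (Sigma.ι X j)) (i j) ≫ Sigma.ι X₀ j)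
    (by
      have h1 : pullback.fst g (Sigma.ι X j) ≫ g =
          pullback.snd g (Sigma.ι X j) ≫ Sigma.ι X j := pullback.condition
      have h2 : pullback.fst (pullback.snd g (Sigma.ι X j)) (i j) ≫
          pullback.snd g (Sigma.ι X j) =
          pullback.snd (pullback.snd g (Sigma.ι X j)) (i j) ≫ i j := pullback.condition
      rw [Category.assoc, h1, ← Category.assoc, h2, Category.assoc, Category.assoc,
        Sigma.ι_map])

lemma bMap_fst {Y : Scheme.{u}} (g : Y ⟶ ∐ X) (j : ι) :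
    bMap (i := i) g j ≫ pullback.fst g (Limits.Sigma.map i) =
      pullback.fst (pullback.snd g (Sigma.ι X j)) (i j) ≫ pullback.fst g (Sigma.ι X j) :=
  pullback.lift_fst _ _ _

lemma isPullback_bMap {Y : Scheme.{u}} (g : Y ⟶ ∐ X) (j : ι) :
    IsPullback (pullback.fst (pullback.snd g (Sigma.ι X j)) (i j)) (bMap (i := i) g j)
      (pullback.fst g (Sigma.ι X j)) (pullback.fst g (Limits.Sigma.map i)) := by
  have outer := isPullback_paste X X₀ i j (pullback.snd g (Sigma.ι X j))
  have s : IsPullback (bMap (i := i) g j ≫ pullback.snd g (Limits.Sigma.map i))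
      (pullback.fst (pullback.snd g (Sigma.ι X j)) (i j)) (Limits.Sigma.map i)
      (pullback.fst g (Sigma.ι X j) ≫ g) := by
    have e1 : bMap (i := i) g j ≫ pullback.snd g (Limits.Sigma.map i) =
        pullback.snd (pullback.snd g (Sigma.ι X j)) (i j) ≫ Sigma.ι X₀ j :=
      pullback.lift_snd _ _ _
    have e2 : pullback.fst g (Sigma.ι X j) ≫ g =
        pullback.snd g (Sigma.ι X j) ≫ Sigma.ι X j := pullback.condition
    rw [e1, e2]
    exact outer.flip
  exact (IsPullback.of_right s (pullback.lift_fst _ _ _)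
    (IsPullback.of_hasPullback g (Limits.Sigma.map i)).flip).flip

theorem backward
    (H : ∀ j : ι, ∀ (Y : Scheme.{u}) (g : Y ⟶ X j), IsFinite g →
      ∀ V : Set ↥(pullback g (i j)), IsClopen V →
        ∃! U : Set ↥Y, IsClopen U ∧ (pullback.fst g (i j)).base ⁻¹' U = V)
    (Y : Scheme.{u}) (g : Y ⟶ ∐ X) (hg : IsFinite g)
    (V : Set ↥(pullback g (Limits.Sigma.map i))) (hV : IsClopen V) :
    ∃! U : Set ↥Y, IsClopen U ∧ (pullback.fst g (Limits.Sigma.map i)).base ⁻¹' U = V := by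
  haveI := hg
  refine clopen_lift_of_pieces (φ := fun z => (pullback.fst g (Limits.Sigma.map i)).base z)
    (J := ι) (Yj := fun j => ↥(pullback g (Sigma.ι X j)))
    (Wj := fun j => ↥(pullback (pullback.snd g (Sigma.ι X j)) (i j)))
    (fun j y' => (pullback.fst g (Sigma.ι X j)).base y')
    (fun j => (pullback.fst g (Sigma.ι X j)).isOpenEmbedding)
    (fun j w => (pullback.fst (pullback.snd g (Sigma.ι X j)) (i j)).base w)
    (fun j w => (bMap (i := i) g j).base w)
    (fun j => (bMap (i := i) g j).continuous)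
    ?_ ?_ ?_ ?_ ?_ V hV
  · intro y
    obtain ⟨k, x, hx⟩ := exists_sigmaι_eq X (g.base y)
    obtain ⟨z, hz1, hz2⟩ := Scheme.Pullback.exists_preimage_pullback (f := g)
      (g := Sigma.ι X k) y x hx.symm
    exact ⟨k, z, hz1⟩
  · intro j k y' y'' h
    have e1 : g.base ((pullback.fst g (Sigma.ι X j)).base y') =
        (Sigma.ι X j).base ((pullback.snd g (Sigma.ι X j)).base y') := by
      have := congrArg (fun f : pullback g (Sigma.ι X j) ⟶ ∐ X => f.base y')
        (pullback.condition (f := g) (g := Sigma.ι X j))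
      simpa using this
    have e2 : g.base ((pullback.fst g (Sigma.ι X k)).base y'') =
        (Sigma.ι X k).base ((pullback.snd g (Sigma.ι X k)).base y'') := by
      have := congrArg (fun f : pullback g (Sigma.ι X k) ⟶ ∐ X => f.base y'')
        (pullback.condition (f := g) (g := Sigma.ι X k))
      simpa using this
    have h' : (pullback.fst g (Sigma.ι X j)).base y' = (pullback.fst g (Sigma.ι X k)).base y'' := h
    rw [h', e2] at e1
    exact (idx_eq_of_sigmaι_eq X _ _ e1).symm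
  · intro j w
    have := congrArg (fun f : pullback (pullback.snd g (Sigma.ι X j)) (i j) ⟶ Y => f.base w)
      (bMap_fst X X₀ i g j)
    simp only [Scheme.Hom.comp_base, TopCat.comp_app] at this
    exact this
  · intro j z y' h
    have hpb := isPullback_bMap X X₀ i g j
    obtain ⟨t, ht1, ht2⟩ := Scheme.Pullback.exists_preimage_pullback
      (f := pullback.fst g (Sigma.ι X j)) (g := pullback.fst g (Limits.Sigma.map i)) y' z h.symm
    refine ⟨hpb.isoPullback.inv.base t, ?_, ?_⟩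
    · have := congrArg (fun f : pullback (pullback.fst g (Sigma.ι X j))
          (pullback.fst g (Limits.Sigma.map i)) ⟶ _ => f.base t) hpb.isoPullback_inv_fst
      simp only [Scheme.Hom.comp_base, TopCat.comp_app] at this
      rw [this]
      exact ht1
    · have := congrArg (fun f : pullback (pullback.fst g (Sigma.ι X j))
          (pullback.fst g (Limits.Sigma.map i)) ⟶ _ => f.base t) hpb.isoPullback_inv_snd
      simp only [Scheme.Hom.comp_base, TopCat.comp_app] at this
      rw [this]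
      exact ht2
  · intro j V' hV'
    exact H j _ (pullback.snd g (Sigma.ι X j)) inferInstance V' hV'

theorem main17964 :
    (∀ (Y : Scheme.{u}) (g : Y ⟶ ∐ X), IsFinite g →
      ∀ V : Set ↥(pullback g (Limits.Sigma.map i)), IsClopen V →
        ∃! U : Set ↥Y, IsClopen U ∧ (pullback.fst g (Limits.Sigma.map i)).base ⁻¹' U = V) ↔
    ∀ j : ι, ∀ (Y : Scheme.{u}) (g : Y ⟶ X j), IsFinite g →
      ∀ V : Set ↥(pullback g (i j)), IsClopen V →
        ∃! U : Set ↥Y, IsClopen U ∧ (pullback.fst g (i j)).base ⁻¹' U = V :=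
  ⟨fun H j Y g hg V hV => forward X X₀ i H j Y g hg V hV,
    fun H Y g hg V hV => backward X X₀ i H Y g hg V hV⟩

end Sch

end Groth.Agent.Helper2.SigmaHens
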